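import Groth.Agent.Fga.JacSurj

/-!
# Surjectivity of the sum map onto the degree-zero part of the Picard scheme, over any field

The statements of `JacAlg`, `JacSurj` for a geometrically integral smooth proper curve over an arbitrary field
(there the field is separably closed).
-/

set_option autoImplicit false
universe u
open CategoryTheory CategoryTheory.Limits AlgebraicGeometry Opposite

namespace Groth.Agent.Sga7.H780.JacSurjG

open Groth.Agent.Grpsch Groth.Agent.Grpsch.PicGrp Groth.Agent.Fga.RigGrp Groth.Agent.Fga.JacSum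
open Groth.Agent.Fga.JacFactor Groth.Agent.Fga.ZeroClass Groth.Agent.Fga.JacAlg Groth.Agent.Fga.JacSurj
open Groth.Agent.Picfga Groth.Agent.Picfga.ZeroDef Groth.Agent.Fdesc.LocGen
open Groth.Agent.Picfga.ZeroDiv Groth.Agent.Picfga.ZeroFin Groth.Agent.Picfga.P1Def
open Groth.Agent.Picfga.ChiDef

section divisor

variable {k : Type u} [Field k] {X : Scheme.{u}} {f : X ⟶ Spec (CommRingCat.of k)}
  (hX : Curve.IsSmoothProperCurve k X f)

include hX

theorem isFinLocFree_of_isZeroIdeal' [GeometricallyIntegral f] (T : Over (Spec (CommRingCat.of k)))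
    (M : (PicF.XT f T).Modules) (hM : PicF.IsInvertible M)
    (s : Γ(M, ⊤)) (hs : ∀ t : T.left, pbTop f (ptHom T t) M s ≠ 0)
    (I : (PicF.XT f T).IdealSheafData) (hI : IsZeroIdeal M s I) :
    Mor2.IsFinLocFree (I.subschemeι ≫ PicF.XTproj f T) := by
  have := smoothOfRelativeDimension_XTproj hX T
  have hprop : IsProper f := hX.1
  obtain ⟨h1, h2, h3⟩ := (S1184.result (PicF.XTproj f T) I).1.mp
    (isEffCartierIdeal_and_flat T M hM s hs (fun t => GeometricallyIntegral.geometrically_isIntegral _ _ _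
      (IsPullback.of_hasPullback f (ptOver T t).hom)) I hI)
  exact ⟨IsFinite.of_isProper_of_locallyQuasiFinite _, h2, h3⟩

theorem exists_divisor' [GeometricallyIntegral f] [SmoothOfRelativeDimension 1 f] [IsSeparated f] (K : Type u) [Field K] [IsAlgClosed K]
    (t : Spec (CommRingCat.of K) ⟶ Spec (CommRingCat.of k)) (M : (PicF.XT f (Over.mk t)).Modules)
    (hM : PicF.IsInvertible M) (s : Γ(M, ⊤)) (hs : s ≠ 0) :
    ∃ (d : ℕ) (x : Fin d → Pt f (Over.mk t)), mk M hM = ∏ i, (gcl f (x i))⁻¹ := by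
  obtain ⟨I, hI⟩ := exists_zeroIdeal hM s
  have hfin : Mor2.IsFinLocFree (I.subschemeι ≫ PicF.XTproj f (Over.mk t)) := by
    refine isFinLocFree_of_isZeroIdeal' hX (Over.mk t) M hM s (fun τ h0 => hs ?_) I hI
    have hiso : IsIso (PicF.XTmap f (ptHom (Over.mk t) τ)) := by
      have h1 := isPullback_pt (f := f) (Over.mk t) τ
      have h2 : IsIso ((Over.mk t).left.fromSpecResidueField τ) := isIso_fromSpecResidueField K τ
      exact MorphismProperty.of_isPullback (P := MorphismProperty.isomorphisms _) h1.flip h2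
    exact eq_zero_of_pullTop_eq_zero (PicF.XTmap f (ptHom (Over.mk t) τ)) hM s h0
  have := smoothOfRelDim_XTproj f (Over.mk t)
  have hE := ((Groth.Agent.S1184.result (PicF.XTproj f (Over.mk t)) I).2 hfin).1
  let τ : (Over.mk t).left := (default : PrimeSpectrum K)
  obtain ⟨x, hx⟩ := exists_prod_gcl f (Iso.refl _ : (Over.mk t).left ≅ Spec (CommRingCat.of K))
    ((I.subschemeι ≫ PicF.XTproj f (Over.mk t)).finrank τ) I
    ⟨hfin, fun y => by rw [Subsingleton.elim (α := PrimeSpectrum K) y τ]⟩ hE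
  exact ⟨_, x, by rw [mk_eq_inv_dcl hM s hI hE, hx, Finset.prod_inv_distrib]⟩

end divisor

theorem exists_points' {k : Type u} [Field k] {X : Scheme.{u}}
    {f : X ⟶ Spec (CommRingCat.of k)} (hX : Curve.IsSmoothProperCurve k X f)
    [GeometricallyIntegral f] [SmoothOfRelativeDimension 1 f] [IsSeparated f] {K : Type u} [Field K] [IsAlgClosed K]
    {t : Spec (CommRingCat.of K) ⟶ Spec (CommRingCat.of k)}
    (hRR : ∀ (x : Pt f (Over.mk t)) (c : Pic (PicF.XT f (Over.mk t))),
      chiK f t (c * (gcl f x)⁻¹) = chiK f t c + 1)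
    (y : Pt f (Over.mk t)) (c : Pic (PicF.XT f (Over.mk t))) (hc : chiK f t c = chiK f t 1)
    (n : ℕ) (hn : 0 < chiK f t 1 + n) :
    ∃ x : Fin n → Pt f (Over.mk t), c = ∏ i, ((gcl f (x i))⁻¹ * gcl f y) := by
  have h1 := chiK_mul_prod hRR c (fun _ : Fin n => y)
  have h1' := h1
  obtain ⟨M, hM, hMc⟩ := exists_mk (c * ∏ _i : Fin n, (gcl f y)⁻¹)
  rw [hMc] at h1'
  have h2 : 0 < chiK f t (mk M hM) := by rw [h1', hc]; exact hn
  let _ := overK f t
  obtain ⟨s, hs⟩ := exists_section_ne_zero K (PicF.XT f (Over.mk t)) M h2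
  obtain ⟨d, x, hx⟩ := exists_divisor' hX K t M hM s hs
  have h3 := chiK_mul_prod hRR 1 x
  rw [one_mul, ← hx, ← hMc, h1, hc] at h3
  have hd : d = n := by omega
  subst hd
  refine ⟨x, ?_⟩
  rw [Finset.prod_mul_distrib, ← hx, ← hMc, mul_assoc, ← Finset.prod_mul_distrib]
  simp

section main

variable {k : Type u} [Field k] {X : Scheme.{u}} {f : X ⟶ Spec (CommRingCat.of k)}
  (hX : Curve.IsSmoothProperCurve k X f) [SmoothOfRelativeDimension 1 f] [IsSeparated f]
  (hRR : RRStep f) (hBC : BCStep f) (σ : Spec (CommRingCat.of k) ⟶ X)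
  (hσ : σ ≫ f = 𝟙 (Spec (CommRingCat.of k)))

include hX hRR hBC in
theorem exists_surj' {P : Over (Spec (CommRingCat.of k))} {ξ : Pic (PicF.XT f P)}
    (h : IsUniv f σ hσ P ξ) [GeometricallyIntegral f] :
    ∃ (Z : Over (Spec (CommRingCat.of k))) (s : Z ⟶ P), IsProper Z.hom ∧ GeometricallyIrreducible Z.hom ∧
      ∀ p : P.left, p ∈ Set.range s.left ↔ chiAt f P p ξ = chiAt f P p 1 := by
  have hprop : IsProper f := hX.1
  have hsm : Smooth f := hX.2.1
  -- the number of points
  let n : ℕ := (1 - chiK f (𝟙 (Spec (CommRingCat.of k))) 1).toNat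
  have hn : ∀ (K : Type u) [Field K] (t : Spec (CommRingCat.of K) ⟶ Spec (CommRingCat.of k)),
      0 < chiK f t 1 + n := by
    intro K _ t
    obtain ⟨φ, hφ⟩ := Spec.map_surjective t
    have h1 : chiK f t 1 = chiK f (𝟙 (Spec (CommRingCat.of k))) 1 := by
      have h2 := hBC k K φ (𝟙 _) 1
      rw [map_one] at h2
      rw [← h2]
      have h3 : t = Spec.map φ ≫ 𝟙 _ := by rw [hφ, Category.comp_id]
      rw [← h3]
    rw [h1]
    have := Int.self_le_toNat (1 - chiK f (𝟙 (Spec (CommRingCat.of k))) 1)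
    omega
  obtain ⟨Z, c, hc, hW, hex, heq⟩ := exists_sum f σ hσ n
  let s : Z ⟶ P := h.hom c hc
  have hs : pull (PicF.XTmap f s) ξ = c := h.pull_hom c hc
  refine ⟨Z, s, ?_, ?_, fun p => ⟨?_, ?_⟩⟩
  · exact hW @IsProper inferInstance (fun A a ha => by
      have : IsProper a := ha
      change IsProper (pullback.fst a f ≫ a)
      infer_instance)
  · refine (hW (@GeometricallyIrreducible ⊓ @UniversallyOpen) ⟨?_, inferInstance⟩
      (fun A a ha => ?_)).1
    · rw [geometricallyIrreducible_iff]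
      intro K _ y W fst snd hp
      have h1 : IsIso snd := MorphismProperty.of_isPullback
        (P := MorphismProperty.isomorphisms Scheme.{u}) hp (MorphismProperty.isomorphisms.infer_property _)
      have h2 : IrreducibleSpace (Spec (CommRingCat.of K)) := inferInstance
      exact snd.homeomorph.irreducibleSpace_iff.2 h2
    · obtain ⟨ha1, ha2⟩ := ha
      exact ⟨GeometricallyIrreducible.comp _ _, inferInstance⟩
  · rintro ⟨z, rfl⟩
    rw [← chiAt_pull hBC, ← chiAt_pull hBC, hs, map_one]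
    rw [chiAt, chiAt, chiPt, chiPt, map_one]
    obtain ⟨x, hx⟩ := heq _ (ofHom Z (fsr Z.left z))
    rw [hx]
    exact chiK_prod_acl hRR σ hσ _ x
  · intro hp
    let K := AlgebraicClosure (P.left.residueField p)
    let φ : CommRingCat.of (P.left.residueField p) ⟶ CommRingCat.of K :=
      CommRingCat.ofHom (algebraMap (P.left.residueField p) K)
    let y : Spec (CommRingCat.of K) ⟶ P.left := Spec.map φ ≫ fsr P.left p
    let T := Over.mk (y ≫ P.hom)
    have hc1 : chiK f (y ≫ P.hom) (pull (PicF.XTmap f (ofHom P y)) ξ) = chiK f (y ≫ P.hom) 1 := by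
      have h1 := chiPt_comp hBC φ P (fsr P.left p) ξ
      have h2 := chiPt_comp hBC φ P (fsr P.left p) 1
      rw [chiPt, map_one] at h2
      rw [chiPt] at h1
      rw [h1, h2]
      exact hp
    obtain ⟨x, hx⟩ := exists_points' hX (hRR K (y ≫ P.hom)) (Pt.ofSection hσ (Over.mk (y ≫ P.hom)))
      (pull (PicF.XTmap f (ofHom P y)) ξ) hc1 n (hn K _)
    obtain ⟨g, hg⟩ := hex (Over.mk (y ≫ P.hom)) x
    have h1 : g ≫ s = ofHom P y := by
      apply h.hom_ext
      rw [XTmap_comp, pull_comp, hs, hg, hx]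
      exact Finset.prod_congr rfl fun i _ => acl_field f σ hσ K _ (x i)
    let z : Spec (CommRingCat.of K) := (default : PrimeSpectrum K)
    refine ⟨g.left z, ?_⟩
    have h2 : (g ≫ s).left z = y z := by rw [h1]; rfl
    rw [Over.comp_left, Scheme.Hom.comp_apply] at h2
    rw [h2]
    change (Spec.map φ ≫ fsr P.left p) z = p
    rw [Scheme.Hom.comp_apply, fsr_apply]

end main

end Groth.Agent.Sga7.H780.JacSurjG
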