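import Groth.Agent.Fga.RigGrp
import Groth.Agent.Sga2.PicThick
import Groth.Agent.CurvesC.TwoAffine
import Groth.Agent.Ega3A.PicSmoothCrit
import Groth.Agent.PerfA.IdealModule
import Groth.Agent.Divis.IdealComap
import Groth.Agent.Picfga.HilbPull

/-!
# The Picard scheme of a curve over a field is smooth

* `exists_lift_class`: `X` a separated scheme over a field covered by two affine opens with affine intersection:
  classes of invertible modules on `X_{A₀}` lift to `X_A`, `A ⟶ A₀` surjective with kernel of square zero.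
* `smooth_of_isUniv`: a scheme locally of finite type with a universal rigidified class is smooth.
-/

set_option autoImplicit false
universe u

open CategoryTheory CategoryTheory.Limits AlgebraicGeometry Opposite

namespace Groth.Agent.Sga7.H780.PicSm

open Groth.Agent.Grpsch.PicGrp Groth.Agent.Fga.RigGrp

variable {k : Type u} [Field k] {X : Scheme.{u}} {f : X ⟶ Spec (CommRingCat.of k)}

theorem ker_appTop_sq {R S : CommRingCat.{u}} (φ : R ⟶ S) (h : RingHom.ker φ.hom ^ 2 = ⊥) :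
    RingHom.ker (Spec.map φ).appTop.hom ^ 2 = ⊥ := by
  have h1 : (Spec.map φ).appTop = (Scheme.ΓSpecIso R).hom ≫ φ ≫ (Scheme.ΓSpecIso S).inv := by
    rw [Scheme.ΓSpecIso_inv_naturality, Iso.hom_inv_id_assoc]
  have h2 : RingHom.ker (Spec.map φ).appTop.hom ≤
      (RingHom.ker φ.hom).comap (Scheme.ΓSpecIso R).hom.hom := by
    intro x hx
    have h3 : (Scheme.ΓSpecIso S).inv.hom (φ.hom ((Scheme.ΓSpecIso R).hom.hom x)) = 0 := by
      have := congr($(h1).hom x)
      exact this.symm.trans hx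
    exact (ConcreteCategory.bijective_of_isIso (Scheme.ΓSpecIso S).inv).1
      (h3.trans (map_zero _).symm)
  refine le_bot_iff.mp ((Ideal.pow_right_mono h2 2).trans ((Ideal.le_comap_pow _ _).trans ?_))
  rw [h]
  intro x hx
  exact (ConcreteCategory.bijective_of_isIso (Scheme.ΓSpecIso R).hom).1
    ((show (Scheme.ΓSpecIso R).hom.hom x = 0 from hx).trans (map_zero _).symm)

theorem ker_sq {R S : CommRingCat.{u}} (φ : R ⟶ S) (h : RingHom.ker φ.hom ^ 2 = ⊥) :
    (Spec.map φ).ker ^ 2 = ⊥ := by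
  apply Scheme.IdealSheafData.ext_of_isAffine
  rw [Scheme.IdealSheafData.ideal_pow, Pi.pow_apply, Scheme.Hom.ker_apply]
  exact ker_appTop_sq φ h

/-- Lifting of classes along a first-order thickening of the base. -/
theorem exists_lift_class [IsSeparated f] {U V : X.Opens} (hU : IsAffineOpen U) (hV : IsAffineOpen V)
    (hUV : U ⊔ V = ⊤) {A A₀ : CommRingCat.{u}} (φ : A ⟶ A₀)
    (hφ : Function.Surjective φ.hom) (hφ2 : (Spec.map φ).ker ^ 2 = ⊥)
    (a : Spec A ⟶ Spec (CommRingCat.of k))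
    (i : Over.mk (Spec.map φ ≫ a) ⟶ Over.mk a) (hi : i.left = Spec.map φ)
    (c₀ : Pic (PicF.XT f (Over.mk (Spec.map φ ≫ a)))) :
    ∃ c : Pic (PicF.XT f (Over.mk a)), pull (PicF.XTmap f i) c = c₀ := by
  let ι := PicF.XTmap f i
  have hpb : IsPullback ι (PicF.XTproj f (Over.mk (Spec.map φ ≫ a))) (PicF.XTproj f (Over.mk a)) i.left :=
    Picfga.HilbPull.isPullback_XTmap f i
  have hcl : IsClosedImmersion i.left := by
    rw [hi]; exact IsClosedImmersion.spec_of_surjective φ hφ
  have hι : IsClosedImmersion ι := MorphismProperty.of_isPullback (P := @IsClosedImmersion) hpb.flip hcl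
  have hker : ι.ker ^ 2 = ⊥ := by
    have h1 : ι.ker = i.left.ker.comap (PicF.XTproj f (Over.mk a)) := by
      rw [← Scheme.IdealSheafData.ker_fst_of_isClosedImmersion, ← hpb.isoPullback_hom_fst,
        Scheme.Hom.ker_comp_of_isIso]
    rw [h1, ← Divis.IdealComap.comap_pow, hi, hφ2]
    exact (Scheme.IdealSheafData.map_gc _).l_bot
  let r : PicF.XT f (Over.mk a) ⟶ X := pullback.fst f (Over.mk a).hom
  have hr : IsAffineHom r := MorphismProperty.pullback_fst _ _ (inferInstanceAs (IsAffineHom a))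
  have hXs : X.IsSeparated := by
    have : IsSeparated (terminal.from X) := by
      rw [← terminal.comp_from f]; infer_instance
    exact ⟨this⟩
  have h2 : Subsingleton (Coh.HH (PicF.XT f (Over.mk a)) (kernel (ClSub.unitToPush ι)) 2) := by
    refine Sga2.ThickCoh.subsingleton_HH_of_iso (Smoothlim.ConormalRes.idealModKerIso ι) 2 ?_
    refine CurvesC.TwoAffine.subsingleton_of_two_le (U := r ⁻¹ᵁ U) (V := r ⁻¹ᵁ V)
      (hU.preimage r) (hV.preimage r) ((hU.inf hV).preimage r) ?_ _ (PerfA.IdealModule.isQCoh_idealMod _) 2 le_rfl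
    have h4 : r ⁻¹ᵁ (U ⊔ V) = ⊤ := by rw [hUV]; rfl
    exact h4
  obtain ⟨L₀, hL₀, rfl⟩ := exists_mk c₀
  obtain ⟨L, hL, ⟨e⟩⟩ := Sga2.PicThick.lift_of_H2 ι hker h2 L₀ hL₀
  refine ⟨mk L hL, ?_⟩
  rw [pull_mk]
  exact mk_congr e

/-- A scheme locally of finite type carrying a universal rigidified class is smooth. -/
theorem smooth_of_isUniv [IsSeparated f] {U V : X.Opens} (hU : IsAffineOpen U) (hV : IsAffineOpen V)
    (hUV : U ⊔ V = ⊤) (σ : Spec (CommRingCat.of k) ⟶ X) (hσ : σ ≫ f = 𝟙 (Spec (CommRingCat.of k)))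
    {P : Over (Spec (CommRingCat.of k))} {ξ : Pic (PicF.XT f P)} (h : IsUniv f σ hσ P ξ)
    [LocallyOfFiniteType P.hom] : Smooth P.hom := by
  refine Ega3A.PicSmoothCrit.smooth_of_lift P.hom fun z => ⟨⊤, trivial, ?_⟩
  intro A A₀ _ φ hφ hφ2 w _ a haw
  let i : Over.mk (Spec.map φ ≫ a) ⟶ Over.mk a := Over.homMk (Spec.map φ) rfl
  let w' : Over.mk (Spec.map φ ≫ a) ⟶ P := Over.homMk w haw.symm
  obtain ⟨c, hc⟩ := exists_lift_class hU hV hUV φ hφ (ker_sq φ hφ2) a i rfl (pull (PicF.XTmap f w') ξ)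
  let c' := norm f σ hσ _ c
  have hc' : c' ∈ Rg f σ hσ (Over.mk a) := norm_mem f σ hσ _ c
  have h1 : pull (PicF.XTmap f i) c' = pull (PicF.XTmap f w') ξ := by
    rw [pull_norm, hc, norm_of_mem f σ hσ (pull_mem w' h.1)]
  have h2 : i ≫ h.hom c' hc' = w' := by
    apply h.hom_ext
    rw [XTmap_comp, pull_comp, h.pull_hom, h1]
  exact ⟨(h.hom c' hc').left, congrArg CommaMorphism.left h2, Over.w (h.hom c' hc')⟩

end Groth.Agent.Sga7.H780.PicSm
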