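import Groth.Agent.Sga7.H732.Hedge
import Groth.Agent.Sga7.H780.PicSm
import Groth.Agent.Sga7.H780.JacSurjG
import Groth.Agent.Fga.JacEnd
import Groth.Agent.Fga.JacRR
import Groth.Agent.Ega3B.JacSteps
import Groth.Agent.Etcore.JacGrp
import Groth.Agent.Picfga.CurveP1

/-!
# The Jacobian of a curve over an arbitrary field, given its Picard scheme

`exists_isJac_of_isUniv`: from a universal rigidified class on a scheme locally of finite type over the field.
-/

set_option autoImplicit false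
universe u

open CategoryTheory CategoryTheory.Limits AlgebraicGeometry Opposite MonObj

namespace Groth.Agent.Sga7.H780.JacField

open Groth.Agent.Grpsch.PicGrp Groth.Agent.Fga.RigGrp Groth.Agent.Fga.JacSum Groth.Agent.Fga.JacSurj
open Groth.Agent.Sga7.H732.Hedge

theorem toCl_eq {Y : Scheme.{u}} (c : Pic Y) : Etcore.FibreDeg.toCl c = toCl c := by
  induction c using ind with | _ L hL => ?_
  rfl

variable {K : Type u} [Field K] {C : Scheme.{u}} {f : C ⟶ Spec (CommRingCat.of K)}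

theorem geometricallyIrreducible [h : GeometricallyIntegral f] : GeometricallyIrreducible f := inferInstance

/-- From the universal pair of `JacEnd.jac_end` to the Jacobian as a group scheme. -/
theorem exists_isJac (hX : Curve.IsSmoothProperCurve K C f) [GeometricallyIntegral f]
    (σ : Spec (CommRingCat.of K) ⟶ C) (hσ : σ ≫ f = 𝟙 _) (J : Over (Spec (CommRingCat.of K)))
    (ξ : PicF.Rig f σ hσ J) (h4 : FGA.HasFibreDegreeZeroCl f J ξ.1)
    (h5 : ∀ (T : Over (Spec (CommRingCat.of K))) (c : PicF.Rig f σ hσ T), FGA.HasFibreDegreeZeroCl f T c.1 →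
        ∃! g : T ⟶ J, PicF.pullCl (PicF.XTmap f g) ξ.1 = c.1) :
    ∃ (_ : GrpObj J) (ξ' : Pic (PicF.XT f J)), IsJac f σ hσ J ξ' := by
  obtain ⟨hp, hs, hint, hdim⟩ := id hX
  let G : GrpObj J := Etcore.JacGrp.grpObj f hdim σ hσ ξ h4 h5
  let a := Etcore.JacGrp.ξ0 f hdim σ hσ ξ h4
  have ha : toCl a.1 = ξ.1 := by
    rw [← toCl_eq]
    exact Etcore.JacGrp.toCl_ξ0 f hdim σ hσ ξ h4
  have hval : ∀ {T : Over (Spec (CommRingCat.of K))} (g : T ⟶ J),
      ((Etcore.JacGrp.homEquiv f hdim σ hσ ξ h4 h5 T) g).1 = pull (PicF.XTmap f g) a.1 := fun g => rfl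
  refine ⟨G, a.1, ⟨a.2.1, by rw [ha]; exact h4, ?_, ?_⟩⟩
  · intro T g h
    rw [← hval, ← hval, ← hval, map_mul]
    rfl
  · intro T c hc hc0
    obtain ⟨g, hg, hu⟩ := h5 T (rigEquiv f σ hσ T ⟨c, hc⟩) hc0
    refine ⟨g, toCl_injective ?_, fun g' hg' => hu g' ?_⟩
    · rw [toCl_pull, ha]
      exact hg
    · change PicF.pullCl _ _ = toCl c
      rw [← ha, ← toCl_pull, hg']

/-- **The Jacobian from a universal rigidified class.** -/
theorem exists_isJac_of_isUniv (hX : Curve.IsSmoothProperCurve K C f) [GeometricallyIntegral f]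
    (σ : Spec (CommRingCat.of K) ⟶ C) (hσ : σ ≫ f = 𝟙 _) {P : Over (Spec (CommRingCat.of K))}
    {ξ : Pic (PicF.XT f P)} (h : IsUniv f σ hσ P ξ) [LocallyOfFiniteType P.hom] :
    ∃ (J : Over (Spec (CommRingCat.of K))) (_ : GrpObj J) (ξ : Pic (PicF.XT f J)),
      IsProper J.hom ∧ GeometricallyIntegral J.hom ∧ IsJac f σ hσ J ξ := by
  obtain ⟨hp, hs, hint, hdim⟩ := id hX
  have hrd : SmoothOfRelativeDimension 1 f := Fga.JacAlg.smoothOfRelDim hX
  obtain ⟨P₁⟩ := Picfga.CurveP1.exists_p1Data hX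
  have hsm : Smooth P.hom := PicSm.smooth_of_isUniv P₁.affine₀ P₁.affine₁ P₁.sup σ hσ h
  have hRR : RRStep f := Fga.JacRR.rrStep f hX
  have hBC : BCStep f := Ega3B.JacSteps.bcStep f
  have hFib := Ega3B.JacSteps.fibStep f
  have hopen : IsOpen {p : P.left | chiAt f P p ξ = chiAt f P p 1} :=
    (Ega3B.JacSteps.isClopen_chiAt P₁ P ξ).isOpen
  obtain ⟨Z, s, hZ1, hZ2, hs'⟩ := JacSurjG.exists_surj' hX hRR hBC σ hσ h
  obtain ⟨J, ξJ, h1, h2, h3, h4, h5⟩ := Fga.JacEnd.jac_end K f σ hσ h ⟨_, hopen⟩ (fun T g => by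
    rw [← toCl_pull, hFib]
    refine forall_congr' fun τ => ?_
    rw [chiAt_pull hBC]
    have h1 := chiAt_pull hBC g τ 1
    rw [map_one] at h1
    rw [h1]
    rfl) Z s (Set.ext hs')
  obtain ⟨G, ξ', hJ⟩ := exists_isJac hX σ hσ J ξJ h4 h5
  exact ⟨J, G, ξ', h1, Flat2B.SmoothGeom.geometricallyIntegral_of_smooth J.hom, hJ⟩

end Groth.Agent.Sga7.H780.JacField
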