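import Groth.Agent.Pic13.H602.RigDesc
import Groth.Agent.Ega3A.PicLocBase
import Groth.Agent.Picfga.PicBridge

/-!
# The rigidified Picard functor of a morphism with a section as étale sheafification

`f : X ⟶ S` with a section `σ`, `O = f_* O` universally:

* `exists_picSh` : the functor of rigidified classes is an étale sheafification of `T ↦ Pic X_T`; the sheaf is
  `rigF f σ`, whose sections on `T` are in bijection with the subgroup `Rg f σ hσ T` of `Pic X_T`.
* `exists_isUniv` : if `PicRel.RepresentedBy f P`, then `P` carries a universal rigidified class.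
-/

set_option autoImplicit false
universe u

open CategoryTheory CategoryTheory.Limits AlgebraicGeometry Opposite

namespace Groth.Agent.Sga7.H780.RigPicSh

open Groth.Agent.Grpsch.PicGrp Groth.Agent.Fga.RigGrp Groth.Agent.Pic13.H602.Rig
open Groth.Agent.Ega3A.PicDiv Groth.Agent.Ega3A.PicEtSh Groth.Agent.Ega3A.PicSheaf
open Groth.Agent.Picfga.OverRep (res)

variable {X S : Scheme.{u}} {f : X ⟶ S} {σ : S ⟶ X} (hσ : σ ≫ f = 𝟙 S)

include hσ in
lemma isIso_snd (T : Over S) : IsIso (pullback.snd (σ ≫ f) T.hom) := by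
  have : IsIso (σ ≫ f) := by rw [hσ]; infer_instance
  infer_instance

lemma wT_eq (T : Over S) : wT f σ T = pullback.snd (σ ≫ f) T.hom ≫ PicF.secT f σ hσ T := by
  have h := pullback.condition (f := σ ≫ f) (g := T.hom)
  apply pullback.hom_ext
  · rw [wT_fst, Category.assoc, Fga.RigGrp.secT_fst, ← Category.assoc, ← h, hσ, Category.comp_id]
  · rw [wT_snd, Category.assoc]
    erw [Fga.RigGrp.secT_XTproj]
    rw [Category.comp_id]

lemma pull_wT_eq_one_iff (T : Over S) (d : Pic (PicF.XT f T)) :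
    pull (wT f σ T) d = 1 ↔ d ∈ Rg f σ hσ T := by
  have := isIso_snd hσ T
  rw [wT_eq hσ, pull_comp, mem_Rg]
  constructor
  · intro h
    have h1 := congrArg (pull (inv (pullback.snd (σ ≫ f) T.hom))) h
    rw [← pull_comp, IsIso.inv_hom_id, pull_id, map_one] at h1
    exact h1
  · intro h
    rw [h, map_one]

lemma toCl_one (Y : Scheme.{u}) : toCl (1 : Pic Y) = PicF.cl (Coh.structureModule Y) := rfl

lemma exists_rcl {T : Over S} {d : Pic (PicF.XT f T)} (hd : d ∈ Rg f σ hσ T) :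
    ∃ c : RCl (wT f σ T), c.cl = toCl d := by
  obtain ⟨L, hL, rfl⟩ := exists_mk d
  have h := (pull_wT_eq_one_iff hσ T _).2 hd
  have h1 : PicF.cl (Coh.structureModule _) = PicF.pullCl (wT f σ T) (PicF.cl L) := by
    rw [← toCl_one, ← h, toCl_pull, toCl_mk]
  obtain ⟨ρ⟩ := Picfga.LineFam.Fam.nonempty_of_cl_eq h1
  exact ⟨RB.cls ⟨L, hL, ρ⟩, rfl⟩

lemma mem_of_cl {T : Over S} {c : RCl (wT f σ T)} {d : Pic (PicF.XT f T)} (h : c.cl = toCl d) :
    d ∈ Rg f σ hσ T := by
  obtain ⟨R, rfl⟩ := c.exists_rep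
  have h1 := R.ρ.cl_eq R.inv
  rw [RB.cls_cl] at h
  rw [h, ← toCl_pull, ← toCl_one] at h1
  exact (pull_wT_eq_one_iff hσ T _).1 (toCl_injective h1).symm

lemma exists_rg {T : Over S} (c : RCl (wT f σ T)) : ∃ d ∈ Rg f σ hσ T, c.cl = toCl d := by
  obtain ⟨d, hd⟩ := exists_toCl c.isInvertibleCl
  exact ⟨d, mem_of_cl hσ hd.symm, hd.symm⟩

section hF

variable (hF : ∀ T : Over S, Function.Bijective (PicF.XTproj f T).appTop)

include hσ hF

lemma bijective_wT (T : Over S) : Function.Bijective (wT f σ T).appTop := by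
  have := isIso_snd hσ T
  have h1 : IsIso (pullback.snd (σ ≫ f) T.hom).appTop :=
    inferInstanceAs (IsIso ((pullback.snd (σ ≫ f) T.hom).app ⊤))
  rw [wT_eq hσ, Scheme.Hom.comp_appTop]
  exact (ConcreteCategory.bijective_of_isIso (pullback.snd (σ ≫ f) T.hom).appTop).comp
    (Picfga.RigSheaf.bijective_secT_appTop (hσ := hσ) hF T)

lemma rcl_ext {T : Over S} {c c' : RCl (wT f σ T)} (h : c.cl = c'.cl) : c = c' := by
  obtain ⟨R, rfl⟩ := c.exists_rep
  obtain ⟨R', rfl⟩ := c'.exists_rep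
  rw [RB.cls_cl, RB.cls_cl] at h
  rw [RB.cls_eq_iff]
  obtain ⟨θ, hθ⟩ := Picfga.LineFam.exists_isArr (show wT f σ T ≫ 𝟙 _ = 𝟙 _ ≫ wT f σ T by simp) R.inv
    (bijective_wT hσ hF T) (by rw [Picfga.RigSheaf.pullCl_id, h]) R.ρ R'.ρ
  exact ⟨⟨θ, hθ⟩⟩

lemma inj : Inj f σ := fun T => (bijective_wT hσ hF T).1

lemma isEtSheaf : Models2.QuoRep.IsEtSheaf (rigF f σ) := by
  intro T 𝒰 x hx
  have hE := 𝒰.isEtale
  refine isFpqcSheaf_rigF (inj hσ hF) T 𝒰.V 𝒰.j ?_ x hx
  apply Scheme.fppfPrecoverage_le_fpqcPrecoverage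
  rw [Scheme.fppfPrecoverage, Scheme.ofArrows_mem_precoverage_iff]
  refine ⟨fun t => 𝒰.covers t, fun i => ⟨?_, ?_⟩⟩
  · have := hE i
    infer_instance
  · have := hE i
    infer_instance

/-- The functor of rigidified classes as étale sheafification of the Picard functor. -/
theorem exists_picSh : ∃ E : PicSh f, E.G = rigF f σ ∧
    ∀ (T : Over S) (c : Pic (PicF.XT f T)) (x : RCl (wT f σ T)), HEq (E.η c) x → x.cl = toCl (norm f σ hσ T c) := by
  let η : ∀ {T : Over S}, Pic (PicF.XT f T) → (rigF f σ).obj (op T) := fun {T} c =>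
    (exists_rcl hσ (norm_mem f σ hσ T c)).choose
  have hη : ∀ {T : Over S} (c : Pic (PicF.XT f T)), RCl.cl (η c) = toCl (norm f σ hσ T c) := fun {T} c =>
    (exists_rcl hσ (norm_mem f σ hσ T c)).choose_spec
  have hnat : ∀ {T T' : Over S} (g : T' ⟶ T) (c : Pic (PicF.XT f T)),
      η (pu f g c) = (rigF f σ).map g.op (η c) := by
    intro T T' g c
    refine rcl_ext hσ hF ?_
    rw [rigF_map, RCl.cl_pull, hη, hη, pu, ← pull_norm, toCl_pull]
  have hsh := isEtSheaf hσ hF
  refine ⟨{ G := rigF f σ, η := η, nat := hnat, sheaf := hsh, locSurj := ?_, eq_iff := ?_ }, rfl, ?_⟩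
  · intro T x
    obtain ⟨d, hd, hx⟩ := exists_rg hσ x
    refine ⟨{ ι := PUnit, V := fun _ => T, j := fun _ => 𝟙 T,
              isEtale := fun _ => inferInstanceAs (Etale (𝟙 T.left)),
              covers := fun t => ⟨⟨⟩, t, rfl⟩ }, fun _ => ⟨d, ?_⟩⟩
    have h1 : η d = x := rcl_ext hσ hF (by rw [hη, norm_of_mem f σ hσ hd, hx])
    rw [h1]
    exact congr($((rigF f σ).map_id (op T)) x).symm
  · intro T c c'
    constructor
    · intro h
      have h1 : norm f σ hσ T c = norm f σ hσ T c' := toCl_injective (by rw [← hη, ← hη, h])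
      have key : ∀ d : Pic (PicF.XT f T), LocEq f T (norm f σ hσ T d) d := by
        intro d
        apply LocEq.of_zar
        intro t
        obtain ⟨U, ht, hU⟩ := Picfga.PicBridge.exists_open_pull_eq_one (pull (PicF.secT f σ hσ T) d) t
        refine ⟨U, ht, LocEq.of_eq ?_⟩
        rw [pu, norm_apply, map_div, ← pull_comp (PicF.XTmap f (res T U)), Fga.RigGrp.XTmap_XTproj, pull_comp]
        have h2 : pull (res T U).left (pull (PicF.secT f σ hσ T) d) = 1 := hU
        rw [h2, map_one, div_one]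
      exact (key c).symm.trans (h1 ▸ key c')
    · rintro ⟨𝒰, h⟩
      apply ((isEtSheaf_iff _).1 hsh).ext_cover T 𝒰
      intro i
      rw [← hnat, ← hnat, h i]
  · intro T c x hx
    rw [← eq_of_heq hx]
    exact hη c

/-- A scheme representing the étale sheafified Picard functor carries a universal rigidified class. -/
theorem exists_isUniv {P : Over S} (h : PicRel.RepresentedBy f P) :
    ∃ ξ : Pic (PicF.XT f P), IsUniv f σ hσ P ξ := by
  obtain ⟨E, hE, -⟩ := exists_picSh hσ hF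
  obtain ⟨ξ, hξ⟩ := Ega3A.PicLocBase.universal_of_representedBy h E
  obtain ⟨G, η, nat, sheaf, ls, ei⟩ := E
  dsimp only at hE
  subst hE
  obtain ⟨d, hd, hx⟩ := exists_rg hσ ξ
  refine ⟨d, hd, fun T c hc => ?_⟩
  obtain ⟨x, hx'⟩ := exists_rcl hσ hc
  obtain ⟨g, hg, hu⟩ := hξ T x
  refine ⟨g, ?_, fun g' hg' => hu g' (rcl_ext hσ hF ?_)⟩
  · apply toCl_injective
    rw [toCl_pull, ← hx, ← hx', ← RCl.cl_pull (wT_XTmap f σ g)]
    exact congrArg RCl.cl hg
  · change RCl.cl ((rigF f σ).map g'.op ξ) = x.cl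
    rw [rigF_map, RCl.cl_pull, hx, hx', ← toCl_pull, hg']

end hF

end Groth.Agent.Sga7.H780.RigPicSh
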